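import Mathlib
import Cfsg.Agent.FastGrp
import Cfsg.Agent.Prune
set_option linter.all false
prune_inst 0x7f00000000000000000000000000000000000000000000000000000000000000000000000000000000000000000000000000000000000000000000000000000000000000000000000000000000000000003fffffffffffffffffffffffffffbeffbdffffffff
open scoped Cfsg.Agent.FastGrp

/-!
# S3540, quasisimple rows: lifting from `S = L / Z(L)` to `L` (helper333)
-/

set_option autoImplicit false
set_option linter.unusedSectionVars false

universe u v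

namespace Cfsg.Agent.H333.QS6.Lift

open Subgroup

variable {X : Type u} [Group X]

/-- a central element of order dividing `r` lies in every Sylow `r`-subgroup -/
theorem mem_sylow_of_center [Finite X] {r : ℕ} [Fact r.Prime] (P : Sylow r X) {z : X} (hz : z ∈ center X)
    (hn : z ^ r = 1) : z ∈ (P : Subgroup X) := by
  have hzp : IsPGroup r (zpowers z) := by
    rintro ⟨y, hy⟩
    obtain ⟨k, rfl⟩ := mem_zpowers_iff.mp hy
    refine ⟨1, Subtype.ext ?_⟩
    show (z ^ k) ^ r ^ 1 = 1
    rw [pow_one, ← zpow_natCast, ← zpow_mul, mul_comm, zpow_mul, zpow_natCast, hn, one_zpow]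
  have hnorm : (zpowers z) ≤ normalizer ((P : Subgroup X) : Set X) := by
    rw [zpowers_le, mem_normalizer_iff]
    intro h
    have h1 : z * h * z⁻¹ = h := by
      rw [← mem_center_iff.mp hz h]; group
    rw [h1]
  have h1 : IsPGroup r ↥(zpowers z ⊔ (P : Subgroup X)) := hzp.to_sup_of_normal_right' P.isPGroup' hnorm
  have h2 := P.3 h1 le_sup_right
  have h3 : z ∈ zpowers z ⊔ (P : Subgroup X) := mem_sup_left (mem_zpowers z)
  rwa [h2] at h3

/-- the centre of a perfect group with abelian Sylow `r`-subgroups has order prime to `r` -/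
theorem not_dvd_center_of_comm [Finite X] {r : ℕ} [Fact r.Prime] (hX : commutator X = ⊤) (P : Sylow r X)
    (hP : IsMulCommutative ↥(P : Subgroup X)) : ¬ r ∣ Nat.card (center X) := by
  intro h
  obtain ⟨⟨z, hzZ⟩, hz⟩ := exists_prime_orderOf_dvd_card' r h
  have hz' : orderOf z = r := by rwa [Subgroup.orderOf_mk] at hz
  have hzP : z ∈ (P : Subgroup X) := mem_sylow_of_center P hzZ (by rw [← hz', pow_orderOf_eq_one])
  let _ : CommGroup ↥(P : Subgroup X) :=
    { (inferInstance : Group ↥(P : Subgroup X)) with mul_comm := fun a b => mul_comm' a b }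
  have key : ∀ (k : ℕ) (g₀ : X), g₀⁻¹ * z ^ k * g₀ ∈ (P : Subgroup X) → g₀⁻¹ * z ^ k * g₀ = z ^ k := by
    intro k g₀ _
    have h1 : z ^ k ∈ center X := pow_mem hzZ k
    rw [mul_assoc, ← mem_center_iff.1 h1 g₀]; group
  have h1 := MonoidHom.transfer_eq_pow (MonoidHom.id ↥(P : Subgroup X)) z key
  have h2 : (MonoidHom.transfer (MonoidHom.id ↥(P : Subgroup X))) z = 1 := by
    have h3 : commutator X ≤ (MonoidHom.transfer (MonoidHom.id ↥(P : Subgroup X))).ker :=
      Abelianization.commutator_subset_ker _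
    rw [hX] at h3
    exact h3 (mem_top z)
  rw [h2, MonoidHom.id_apply] at h1
  have h3 : z ^ (P : Subgroup X).index = 1 := by
    have := congrArg Subtype.val h1
    exact this.symm
  have h4 : orderOf z ∣ (P : Subgroup X).index := orderOf_dvd_of_pow_eq_one h3
  rw [hz'] at h4
  exact P.not_dvd_index h4

/-- the centre of a perfect group `X` with `r² ∤ |X / Z(X)|` has order prime to `r` -/
theorem not_dvd_center [Finite X] {r : ℕ} [Fact r.Prime] (hX : commutator X = ⊤)
    (hs : ¬ r ^ 2 ∣ Nat.card (X ⧸ center X)) : ¬ r ∣ Nat.card (center X) := by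
  obtain ⟨P⟩ : Nonempty (Sylow r X) := inferInstance
  refine not_dvd_center_of_comm hX P ?_
  have hP1 : IsPGroup r ((P : Subgroup X).map (QuotientGroup.mk' (center X))) := P.isPGroup'.map _
  have hcyc : IsCyclic ((P : Subgroup X).map (QuotientGroup.mk' (center X))) := by
    obtain ⟨n, hn⟩ := IsPGroup.iff_card.1 hP1
    have hd : r ^ n ∣ Nat.card (X ⧸ center X) := by rw [← hn]; exact Subgroup.card_subgroup_dvd_card _
    have hn2 : n < 2 := by
      by_contra h
      exact hs ((pow_dvd_pow r (by omega)).trans hd)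
    rcases (show n = 0 ∨ n = 1 by omega) with rfl | rfl
    · rw [pow_zero] at hn
      have : Subsingleton ↥((P : Subgroup X).map (QuotientGroup.mk' (center X))) :=
        (Nat.card_eq_one_iff_unique.1 hn).1
      exact isCyclic_of_subsingleton
    · rw [pow_one] at hn
      exact isCyclic_of_prime_card hn
  let f : (P : Subgroup X) →* ((P : Subgroup X).map (QuotientGroup.mk' (center X))) :=
    (QuotientGroup.mk' (center X)).subgroupMap (P : Subgroup X)
  have hf : f.ker ≤ center (P : Subgroup X) := by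
    intro x hx
    have h1 : QuotientGroup.mk' (center X) (x : X) = 1 := congrArg Subtype.val hx
    rw [← MonoidHom.mem_ker, QuotientGroup.ker_mk'] at h1
    rw [mem_center_iff]
    intro y
    exact Subtype.ext (mem_center_iff.mp h1 y)
  let _ := commGroupOfCyclicCenterQuotient f hf
  exact ⟨⟨fun a b => mul_comm a b⟩⟩

section lift

variable [Finite X] {r : ℕ} (hr : r.Prime) (hz : ¬ r ∣ Nat.card (center X))

include hr hz in
theorem eq_one_of_center {z : X} (h : z ∈ center X) (h1 : z ^ r = 1) : z = 1 := by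
  have h2 : orderOf z ∣ r := orderOf_dvd_of_pow_eq_one h1
  rcases (Nat.dvd_prime hr).1 h2 with h3 | h3
  · exact orderOf_eq_one_iff.1 h3
  · exfalso
    apply hz
    have h4 := orderOf_dvd_natCard (⟨z, h⟩ : center X)
    rwa [Subgroup.orderOf_mk, h3] at h4

include hr hz in
/-- an element of order dividing `r` lifts to an element of order dividing `r` -/
theorem exists_lift {s : X ⧸ center X} (hs : s ^ r = 1) : ∃ y : X, y ^ r = 1 ∧ (QuotientGroup.mk y : X ⧸ center X) = s := by
  obtain ⟨y, rfl⟩ := QuotientGroup.mk_surjective s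
  have hc : (Nat.card (center X)).Coprime r := ((Nat.Prime.coprime_iff_not_dvd hr).2 hz).symm
  obtain ⟨m, hm⟩ := Nat.exists_mul_mod_eq_one_of_coprime hc hr.one_lt
  have hyr : y ^ r ∈ center X := by
    rw [← QuotientGroup.eq_one_iff, QuotientGroup.mk_pow]; exact hs
  refine ⟨y ^ (Nat.card (center X) * m), ?_, ?_⟩
  · rw [← pow_mul, mul_comm _ r, pow_mul, pow_mul]
    have h1 : (y ^ r) ^ Nat.card (center X) = 1 := by
      have h2 : (⟨y ^ r, hyr⟩ : center X) ^ Nat.card (center X) = 1 := pow_card_eq_one'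
      exact congrArg Subtype.val h2
    rw [h1, one_pow]
  · rw [QuotientGroup.mk_pow, pow_eq_pow_mod _ hs, hm.2, pow_one]

include hr hz in
/-- relations `t y t⁻¹ = y ^ a` lift -/
theorem lift_rel {y t : X} (hy : y ^ r = 1) {a : ℕ}
    (h : (QuotientGroup.mk t : X ⧸ center X) * QuotientGroup.mk y * (QuotientGroup.mk t)⁻¹ = QuotientGroup.mk y ^ a) :
    t * y * t⁻¹ = y ^ a := by
  have h1 : (y ^ a)⁻¹ * (t * y * t⁻¹) ∈ center X := by
    rw [← QuotientGroup.eq_one_iff]
    change ((QuotientGroup.mk y : X ⧸ center X) ^ a)⁻¹ * (QuotientGroup.mk t * QuotientGroup.mk y *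
      (QuotientGroup.mk t)⁻¹) = 1
    rw [h, inv_mul_cancel]
  have h2 : (t * y * t⁻¹) ^ r = 1 := by rw [conj_pow, hy, mul_one, mul_inv_cancel]
  have h3 : (y ^ a) * ((y ^ a)⁻¹ * (t * y * t⁻¹)) = t * y * t⁻¹ := by group
  have h4 : ((y ^ a)⁻¹ * (t * y * t⁻¹)) ^ r = 1 := by
    have h5 : Commute (y ^ a) ((y ^ a)⁻¹ * (t * y * t⁻¹)) := (mem_center_iff.1 h1 (y ^ a))
    have h6 := h5.mul_pow r
    rw [h3, h2, ← pow_mul, mul_comm a r, pow_mul, hy, one_pow, one_mul] at h6
    exact h6.symm
  have h5 := eq_one_of_center hr hz h1 h4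
  rw [h5, mul_one] at h3
  exact h3.symm

end lift

/-! ### Sylow subgroups of prime order -/

section syl

variable {S : Type u} [Group S] [Finite S] {r : ℕ} [hr : Fact r.Prime]

/-- a subgroup of order `r` is a Sylow subgroup if `r² ∤ |S|` -/
def sylOf (hs : ¬ r ^ 2 ∣ Nat.card S) (R : Subgroup S) (hR : Nat.card R = r) : Sylow r S :=
  Sylow.ofCard R (by
    have h1 : r ∣ Nat.card S := by rw [← hR]; exact Subgroup.card_subgroup_dvd_card R
    have h2 : (Nat.card S).factorization r = 1 := by
      have h3 : Nat.card S ≠ 0 := Nat.card_pos.ne'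
      have h4 : 1 ≤ (Nat.card S).factorization r :=
        (hr.out.pow_dvd_iff_le_factorization h3).1 (by rwa [pow_one])
      have h5 : ¬ 2 ≤ (Nat.card S).factorization r := fun h => hs ((hr.out.pow_dvd_iff_le_factorization h3).2 h)
      omega
    rw [hR, h2, pow_one])

theorem coe_sylOf (hs : ¬ r ^ 2 ∣ Nat.card S) (R : Subgroup S) (hR : Nat.card R = r) :
    ((sylOf hs R hR : Sylow r S) : Subgroup S) = R := rfl

theorem card_syl (hs : ¬ r ^ 2 ∣ Nat.card S) (hd : r ∣ Nat.card S) (P : Sylow r S) : Nat.card P = r := by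
  obtain ⟨x, hx⟩ := exists_prime_orderOf_dvd_card' r hd
  have h1 : Nat.card (zpowers x) = r := by rw [Nat.card_zpowers, hx]
  have h2 := Sylow.card_eq_multiplicity (sylOf hs (zpowers x) h1)
  rw [P.card_eq_multiplicity, ← h2]
  exact h1

theorem card_order (hs : ¬ r ^ 2 ∣ Nat.card S) (hd : r ∣ Nat.card S) :
    Nat.card {R : Subgroup S // Nat.card R = r} = Nat.card (Sylow r S) := by
  refine Nat.card_congr ⟨fun R => sylOf hs R.1 R.2, fun P => ⟨P, card_syl hs hd P⟩, fun R => rfl, fun P => ?_⟩
  exact Sylow.ext rfl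

/-- counting: the number of subgroups of order `r` -/
theorem card_order_spec (hs : ¬ r ^ 2 ∣ Nat.card S) (hd : r ∣ Nat.card S) :
    Nat.card {R : Subgroup S // Nat.card R = r} ∣ Nat.card S / r ∧
      Nat.card {R : Subgroup S // Nat.card R = r} % r = 1 := by
  rw [card_order hs hd]
  obtain ⟨P⟩ : Nonempty (Sylow r S) := inferInstance
  constructor
  · have h1 := P.card_dvd_index
    have h2 : Nat.card S / r = (P : Subgroup S).index := by
      have h3 := (P : Subgroup S).card_mul_index
      have h4 : Nat.card (P : Subgroup S) = r := card_syl hs hd P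
      rw [h4] at h3
      rw [← h3, Nat.mul_div_cancel_left _ hr.out.pos]
    rw [h2]
    exact h1
  · have h1 := card_sylow_modEq_one r S
    have h2 : Nat.card (Sylow r S) % r = 1 % r := h1
    rw [h2, Nat.mod_eq_of_lt hr.out.one_lt]

/-- in a simple group of composite order a self-normalising Sylow subgroup of prime order is impossible -/
theorem card_order_ne [IsSimpleGroup S] (hs : ¬ r ^ 2 ∣ Nat.card S) (hd : r ∣ Nat.card S) (hne : Nat.card S ≠ r) :
    Nat.card {R : Subgroup S // Nat.card R = r} ≠ Nat.card S / r := by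
  rw [card_order hs hd]
  obtain ⟨P⟩ : Nonempty (Sylow r S) := inferInstance
  intro h
  have h4 : Nat.card (P : Subgroup S) = r := card_syl hs hd P
  have h3 := (P : Subgroup S).card_mul_index
  rw [h4] at h3
  have h5 : (P : Subgroup S).index = Nat.card S / r := by
    rw [← h3, Nat.mul_div_cancel_left _ hr.out.pos]
  have h6 : (normalizer ((P : Subgroup S) : Set S)).index = (P : Subgroup S).index := by
    rw [h5, ← h, P.card_eq_index_normalizer]
    rfl
  have h7 : (normalizer ((P : Subgroup S) : Set S)) = (P : Subgroup S) := by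
    symm
    apply Subgroup.eq_of_le_of_card_ge le_normalizer
    have a1 := (P : Subgroup S).card_mul_index
    have a2 := (normalizer ((P : Subgroup S) : Set S)).card_mul_index
    rw [h6, ← a1] at a2
    exact (Nat.eq_of_mul_eq_mul_right (Nat.pos_of_ne_zero (Subgroup.index_ne_zero_of_finite)) a2).le
  have hcyc : IsCyclic ↥(P : Subgroup S) := isCyclic_of_prime_card h4
  have h8 : normalizer ((P : Subgroup S) : Set S) ≤ centralizer ((P : Subgroup S) : Set S) := by
    rw [h7, le_centralizer_iff_isMulCommutative]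
    exact inferInstance
  have h9 := MonoidHom.ker_transferSylow_isComplement' P h8
  rcases Subgroup.Normal.eq_bot_or_eq_top (H := (MonoidHom.transferSylow P h8).ker) inferInstance with h10 | h10
  · rw [h10] at h9
    have h11 := h9.card_mul_card
    rw [card_bot, one_mul, h4] at h11
    exact hne h11.symm
  · rw [h10] at h9
    have h11 := h9.card_mul_card
    rw [card_top, h4] at h11
    have : 0 < Nat.card S := Nat.card_pos
    have := hr.out.two_le
    nlinarith

end syl

/-! ### the elements `x` with `x ^ r` central -/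

section conj

variable [Finite X] {r : ℕ} [hr : Fact r.Prime]

theorem conj_form (hs : ¬ r ^ 2 ∣ Nat.card (X ⧸ center X)) {x₁ x : X}
    (h1 : x₁ ^ r = 1) (h1z : x₁ ∉ center X) (hxz : x ∉ center X) (hx : x ^ r ∈ center X) :
    ∃ g : X, ∃ j : ℕ, j.Coprime r ∧ ∃ z ∈ center X, x = g * x₁ ^ j * g⁻¹ * z := by
  set S := X ⧸ center X
  have o1 : orderOf (QuotientGroup.mk x₁ : S) = r := by
    refine orderOf_eq_prime ?_ ?_
    · rw [← QuotientGroup.mk_pow, h1]; rfl
    · rwa [Ne, QuotientGroup.eq_one_iff]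
  have o2 : orderOf (QuotientGroup.mk x : S) = r := by
    refine orderOf_eq_prime ?_ ?_
    · rw [← QuotientGroup.mk_pow, QuotientGroup.eq_one_iff]; exact hx
    · rwa [Ne, QuotientGroup.eq_one_iff]
  obtain ⟨g, hg⟩ := MulAction.exists_smul_eq S
    (sylOf hs (zpowers (QuotientGroup.mk x₁ : S)) (by rw [Nat.card_zpowers, o1]))
    (sylOf hs (zpowers (QuotientGroup.mk x : S)) (by rw [Nat.card_zpowers, o2]))
  have h3 : (QuotientGroup.mk x : S) ∈
      ((g • sylOf hs (zpowers (QuotientGroup.mk x₁ : S)) (by rw [Nat.card_zpowers, o1]) : Sylow r S) : Subgroup S) := by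
    rw [hg]
    exact mem_zpowers _
  rw [Sylow.coe_subgroup_smul, coe_sylOf, Subgroup.mem_pointwise_smul_iff_inv_smul_mem, mem_zpowers_iff] at h3
  obtain ⟨k, hk⟩ := h3
  obtain ⟨g', rfl⟩ := QuotientGroup.mk_surjective g
  have h4 : (QuotientGroup.mk x : S) = QuotientGroup.mk g' * QuotientGroup.mk x₁ ^ k * (QuotientGroup.mk g')⁻¹ := by
    rw [hk]
    have h5 : ((MulAut.conj (QuotientGroup.mk g' : S))⁻¹ • (QuotientGroup.mk x : S)) =
        (QuotientGroup.mk g')⁻¹ * QuotientGroup.mk x * QuotientGroup.mk g' := by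
      rw [← map_inv]
      simp [MulAut.smul_def, MulAut.conj_apply]
    rw [h5]
    group
  -- natural exponent
  have hrpos : 0 < (r : ℤ) := by exact_mod_cast hr.out.pos
  obtain ⟨j, hj⟩ := Int.eq_ofNat_of_zero_le (Int.emod_nonneg k hrpos.ne')
  have h5 : (QuotientGroup.mk x₁ : S) ^ k = QuotientGroup.mk x₁ ^ j := by
    rw [← zpow_natCast, ← hj]
    have := zpow_mod_orderOf (QuotientGroup.mk x₁ : S) k
    rw [o1] at this
    exact this.symm
  refine ⟨g', j, ?_, (g' * x₁ ^ j * g'⁻¹)⁻¹ * x, ?_, by group⟩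
  · rw [Nat.coprime_comm, Nat.Prime.coprime_iff_not_dvd hr.out]
    rintro ⟨m, rfl⟩
    rw [h5, pow_mul, ← QuotientGroup.mk_pow, h1] at h4
    have h6 : (QuotientGroup.mk x : S) = 1 := by
      rw [h4]
      change QuotientGroup.mk g' * (1 : S) ^ m * (QuotientGroup.mk g')⁻¹ = 1
      rw [one_pow, mul_one, mul_inv_cancel]
    exact hxz ((QuotientGroup.eq_one_iff x).1 h6)
  · rw [← QuotientGroup.eq_one_iff]
    change (QuotientGroup.mk g' * (QuotientGroup.mk x₁ : S) ^ j * (QuotientGroup.mk g')⁻¹)⁻¹ * QuotientGroup.mk x = 1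
    rw [← h5, ← h4, inv_mul_cancel]

end conj

end Cfsg.Agent.H333.QS6.Lift
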